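import Cfsg.Agent.HHS52.Basic
import Cfsg.Agent.Lib.Coprime.Generation

/-!
The family of invariant `p`-subgroups normalised by `C(Φ) ∩ N(E)` (step 3 of `PLAN.md`).
-/

set_option autoImplicit false
set_option linter.unusedSectionVars false

namespace Cfsg.Agent.HHS52.MSub

open Subgroup
open scoped commutatorElement

variable {G : Type*} [Group G] [Finite G] (c : Cfg G)

/-- `C_{N(E)}(Φ)`. -/
def N1 : Subgroup G := normalizer (c.E : Set G) ⊓ centralizer (c.Φ : Set G)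

/-- `O_p(C(z))`. -/
def W (z : G) : Subgroup G := Cfsg.pCoreOf c.p (centralizer ({z} : Set G))

theorem E_le_N1 : c.E ≤ N1 c :=
  le_inf Subgroup.le_normalizer fun e he => mem_centralizer_iff.mpr fun z hz =>
    c.Φ_central hz (c.E_le_S he)

theorem centralizer_E_le_N1 : centralizer (c.E : Set G) ≤ N1 c :=
  le_inf (centralizer_le_normalizer _) (centralizer_le c.Φ_le_E)

theorem S_le_N1 : (c.S : Subgroup G) ≤ N1 c := by
  refine le_inf ?_ fun s hs => mem_centralizer_iff.mpr fun z hz => c.Φ_central hz hs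
  exact (le_normalizer_comm (α := c.α))

theorem E_two : IsPGroup 2 c.E := c.S.isPGroup'.to_le c.E_le_S

theorem eq_one_of_p_two {g : G} {P : Subgroup G} (hP : IsPGroup c.p P) {R : Subgroup G}
    (hR : IsPGroup 2 R) (hgP : g ∈ P) (hgR : g ∈ R) : g = 1 := by
  haveI : Fact (Nat.Prime 2) := ⟨Nat.prime_two⟩
  haveI : Fact c.p.Prime := ⟨c.hp⟩
  have := (IsPGroup.disjoint_of_ne c.p 2 c.hp2 _ _ hP hR).le_bot
    (show g ∈ P ⊓ R from mem_inf.mpr ⟨hgP, hgR⟩)
  exact mem_bot.mp this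

/-- A `p`-subgroup normalised by and normalising `E` centralises it. -/
theorem le_centralizer_E {Y : Subgroup G} (hY : IsPGroup c.p Y)
    (hEY : c.E ≤ normalizer (Y : Set G)) (hYE : Y ≤ normalizer (c.E : Set G)) :
    Y ≤ centralizer (c.E : Set G) := by
  intro y hy
  refine mem_centralizer_iff.mpr fun e he => ?_
  have h1 : y * e * y⁻¹ * e⁻¹ ∈ c.E :=
    mul_mem (Coprime.conj_mem_of_mem_normalizer (hYE hy) he) (inv_mem he)
  have h2 : y * e * y⁻¹ * e⁻¹ ∈ Y := by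
    rw [mul_assoc, mul_assoc, ← mul_assoc e]
    exact mul_mem hy (Coprime.conj_mem_of_mem_normalizer (hEY he) (inv_mem hy))
  have h3 := eq_one_of_p_two c hY (E_two c) h2 h1
  exact (mul_inv_eq_iff_eq_mul.mp (mul_inv_eq_one.mp h3)).symm

theorem NE_ne_top : normalizer (c.E : Set G) ≠ ⊤ :=
  c.normalizer_ne_top (E_two c) c.E_inv c.E_ne_bot

theorem pCore_NE_le : Cfsg.pCoreOf c.p (normalizer (c.E : Set G)) ≤ centralizer (c.E : Set G) :=
  le_centralizer_E c (LargeSub.isPGroup_pCoreOf _)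
    (Subgroup.le_normalizer.trans (LargeSub.le_normalizer_pCoreOf _ _)) (LargeSub.pCoreOf_le _)

/-- `N(E)` is generated by `C_{N(E)}(Φ)` and its fixed points. -/
theorem exists_N1_mul_fixed {g : G} (hg : g ∈ normalizer (c.E : Set G)) :
    ∃ a ∈ N1 c, ∃ d ∈ normalizer (c.E : Set G) ⊓ fixed c.α, g = a * d := by
  obtain ⟨y, hy, d, hd, rfl⟩ := c.cop.exists_mul_fixed c.E_inv.normalizer hg
  have h1 := c.comm_le_sup_E c.E_inv.normalizer (NE_ne_top c) Subgroup.le_normalizer hy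
  exact ⟨y, (sup_le ((pCore_NE_le c).trans (centralizer_E_le_N1 c)) (E_le_N1 c)) h1, d, hd, rfl⟩

/-- `N(E)` normalises `Φ`. -/
theorem NE_le_normalizer_Φ :
    normalizer (c.E : Set G) ≤ normalizer ((c.Φ : Subgroup G) : Set G) := by
  intro g hg
  obtain ⟨a, ha, d, hd, rfl⟩ := exists_N1_mul_fixed c hg
  refine mul_mem ((inf_le_right.trans (centralizer_le_normalizer _)) ha) ?_
  refine Coprime.le_normalizer_inf (A := zpowers d) (zpowers_le.mpr (mem_inf.mp hd).1) ?_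
    (mem_zpowers d)
  exact zpowers_le.mpr (Subgroup.le_normalizer (mem_inf.mp hd).2)

theorem NE_le_normalizer_N1 :
    normalizer (c.E : Set G) ≤ normalizer ((N1 c : Subgroup G) : Set G) :=
  Coprime.le_normalizer_inf Subgroup.le_normalizer
    (Coprime.le_normalizer_centralizer (NE_le_normalizer_Φ c))

theorem N1_inv : Inv c.α (N1 c) := c.E_inv.normalizer.inf c.Φ_inv.centralizer

/-- A `p`-subgroup of a proper invariant `H`, normalised by `C_{N(E)}(Φ) ≤ H`, lies in `O_p(H)`. -/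
theorem le_pCoreOf_of_normalized {H X : Subgroup G} (hH : Inv c.α H) (hne : H ≠ ⊤)
    (hN1 : N1 c ≤ H) (hXH : X ≤ H) (hX : IsPGroup c.p X)
    (hXn : N1 c ≤ normalizer (X : Set G)) : X ≤ Cfsg.pCoreOf c.p H := by
  set O := Cfsg.pCoreOf c.p H with hO
  have hOn : H ≤ normalizer (O : Set G) := LargeSub.le_normalizer_pCoreOf _ _
  set Y := (X ⊔ O) ⊓ normalizer (c.E : Set G) with hY
  have hXO : IsPGroup c.p ↥(X ⊔ O) :=
    LargeSub.isPGroup_sup hX (LargeSub.isPGroup_pCoreOf H) (hXH.trans hOn)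
  have hYp : IsPGroup c.p Y := hXO.to_le inf_le_left
  have hYn : N1 c ≤ normalizer (Y : Set G) :=
    Coprime.le_normalizer_inf (Coprime.le_normalizer_sup hXn (hN1.trans hOn))
      (inf_le_left.trans Subgroup.le_normalizer)
  have hYC : Y ≤ N1 c :=
    (le_centralizer_E c hYp ((E_le_N1 c).trans hYn) inf_le_right).trans (centralizer_E_le_N1 c)
  set Y2 := Cfsg.pCoreOf c.p (N1 c) with hY2
  have hYY2 : Y ≤ Y2 := LargeSub.le_pCoreOf hYC hYn hYp
  have hY2O : Y2 ≤ O := by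
    refine le_sup_left.trans (LargeSub.le_pCoreOf
      (sup_le ((LargeSub.pCoreOf_le _).trans hN1) (LargeSub.pCoreOf_le _)) ?_
      (LargeSub.isPGroup_sup (LargeSub.isPGroup_pCoreOf _) (LargeSub.isPGroup_pCoreOf _)
        (((LargeSub.pCoreOf_le _).trans hN1).trans hOn)))
    intro h hh
    obtain ⟨a, ha, b, hb, rfl⟩ := c.exists_mul_normalizer hH hne ((E_le_N1 c).trans hN1) hh
    refine mul_mem (Subgroup.le_normalizer (mem_sup_right ha)) ?_
    exact Coprime.le_normalizer_sup (A := zpowers b)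
      (zpowers_le.mpr (LargeSub.normalizer_le_normalizer_pCoreOf _ _
        (NE_le_normalizer_N1 c (mem_inf.mp hb).2)))
      (zpowers_le.mpr (hOn (mem_inf.mp hb).1)) (mem_zpowers b)
  intro x hx
  obtain ⟨a, ha, b, hb, e⟩ := c.exists_mul_normalizer hH hne ((E_le_N1 c).trans hN1) (hXH hx)
  have hbY : b ∈ Y := mem_inf.mpr ⟨by
    have : a⁻¹ * x ∈ X ⊔ O := mul_mem (mem_sup_right (inv_mem ha)) (mem_sup_left hx)
    rwa [e, inv_mul_cancel_left] at this, (mem_inf.mp hb).2⟩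
  rw [e]
  exact mul_mem ha (hY2O (hYY2 hbY))

/-- The members of the family. -/
structure Mem (Q : Subgroup G) : Prop where
  pgroup : IsPGroup c.p Q
  inv : Inv c.α Q
  norm : N1 c ≤ normalizer (Q : Set G)

/-- The maximal members. -/
def IsMax (P : Subgroup G) : Prop := Mem c P ∧ ∀ Q, Mem c Q → P ≤ Q → Q ≤ P

variable {c}

theorem exists_max {Q : Subgroup G} (hQ : Mem c Q) : ∃ P, IsMax c P ∧ Q ≤ P := by
  obtain ⟨P, hQP, hP⟩ := ({R : Subgroup G | Mem c R}.toFinite).exists_le_maximal hQ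
  exact ⟨P, ⟨hP.1, fun R hR hPR => hP.2 hR hPR⟩, hQP⟩

theorem Mem.inf {P Q : Subgroup G} (hP : Mem c P) (hQ : Mem c Q) : Mem c (P ⊓ Q) :=
  ⟨hP.pgroup.to_le inf_le_left, hP.inv.inf hQ.inv, Coprime.le_normalizer_inf hP.norm hQ.norm⟩

theorem Mem.normalizer_ne_top {Q : Subgroup G} (hQ : Mem c Q) (h1 : Q ≠ ⊥) :
    normalizer (Q : Set G) ≠ ⊤ := fun h =>
  h1 (c.core Q (normalizer_eq_top_iff.mp h) hQ.pgroup)

theorem mem_pCoreOf {H : Subgroup G} (hH : Inv c.α H) (hN1 : N1 c ≤ H) :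
    Mem c (Cfsg.pCoreOf c.p H) :=
  ⟨LargeSub.isPGroup_pCoreOf H, hH.pCoreOf, hN1.trans (LargeSub.le_normalizer_pCoreOf _ _)⟩

/-- Two maximal members with nontrivial intersection coincide. -/
theorem eq_of_meet {P1 P2 : Subgroup G} (h1 : IsMax c P1) (h2 : IsMax c P2)
    (hI : P1 ⊓ P2 ≠ ⊥) : P1 = P2 := by
  haveI : Fact c.p.Prime := ⟨c.hp⟩
  induction hn : Nat.card G - Nat.card ↥(P1 ⊓ P2) using Nat.strong_induction_on
    generalizing P1 P2 with
  | _ n IH =>
  by_cases hP1 : P1 ≤ P2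
  · exact le_antisymm hP1 (h1.2 P2 h2.1 hP1)
  by_cases hP2 : P2 ≤ P1
  · exact le_antisymm (h2.2 P1 h1.1 hP2) hP2
  set I := P1 ⊓ P2 with hIdef
  have hIm : Mem c I := h1.1.inf h2.1
  set H := normalizer (I : Set G) with hH
  have hHi : Inv c.α H := hIm.inv.normalizer
  obtain ⟨P3, hP3, hOP3⟩ := exists_max (mem_pCoreOf hHi hIm.norm)
  have hstep : ∀ P : Subgroup G, IsMax c P → I < P → P = P3 := by
    intro P hP hlt
    obtain ⟨x, hxP, hxI, hxn⟩ := LargeSub.exists_normalizer_not_mem hP.1.pgroup hlt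
    have hQ : P ⊓ H ≤ P3 := (le_pCoreOf_of_normalized c hHi
      (hIm.normalizer_ne_top hI) hIm.norm inf_le_right (hP.1.pgroup.to_le inf_le_left)
      (Coprime.le_normalizer_inf hP.1.norm (hIm.norm.trans Subgroup.le_normalizer))).trans hOP3
    have hlt' : I < P ⊓ P3 := by
      refine lt_of_le_of_ne (le_inf hlt.le ((le_inf hlt.le Subgroup.le_normalizer).trans hQ))
        fun e => hxI ?_
      rw [e]
      exact mem_inf.mpr ⟨hxP, hQ (mem_inf.mpr ⟨hxP, hxn⟩)⟩
    refine IH _ ?_ hP hP3 (fun h => hI (le_bot_iff.mp (hlt'.le.trans h.le))) rfl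
    have hc : Nat.card I < Nat.card ↥(P ⊓ P3) := by
      by_contra hle
      exact hlt'.ne (eq_of_le_of_card_ge hlt'.le (not_lt.mp hle))
    have hc2 := card_le_card_group (P ⊓ P3)
    omega
  have e1 := hstep P1 h1 (lt_of_le_of_ne inf_le_left fun e => hP1 (e.ge.trans inf_le_right))
  have e2 := hstep P2 h2 (lt_of_le_of_ne inf_le_right fun e => hP2 (e.ge.trans inf_le_left))
  exact e1.trans e2.symm

theorem Φ_ne_one_twoElt {z : G} (hz : z ∈ c.Φ) : IsTwoElt z :=
  isTwoElt_of_sq (c.Φ_sq z hz)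

theorem N1_le_centralizer {z : G} (hz : z ∈ c.Φ) : N1 c ≤ centralizer ({z} : Set G) :=
  inf_le_right.trans (centralizer_le (by simpa using hz))

theorem W_mem {z : G} (hz : z ∈ c.Φ) : Mem c (W c z) :=
  mem_pCoreOf (inv_centralizer_singleton hz.2) (N1_le_centralizer hz)

theorem C_ne_top {z : G} (hz : z ∈ c.Φ) (h1 : z ≠ 1) : centralizer ({z} : Set G) ≠ ⊤ :=
  c.centralizer_ne_top (Φ_ne_one_twoElt hz) h1

/-- A member centralised by `z` lies in `W z`. -/
theorem le_W {X : Subgroup G} (hX : IsPGroup c.p X) (hXn : N1 c ≤ normalizer (X : Set G)) {z : G}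
    (hz : z ∈ c.Φ) (h1 : z ≠ 1) (hXz : X ≤ centralizer ({z} : Set G)) : X ≤ W c z :=
  le_pCoreOf_of_normalized c (inv_centralizer_singleton hz.2) (C_ne_top hz h1)
    (N1_le_centralizer hz) hXz hX hXn

theorem centralizer_le_sup {z : G} (hz : z ∈ c.Φ) (h1 : z ≠ 1) :
    centralizer ({z} : Set G) ≤ W c z ⊔ normalizer (c.E : Set G) := by
  intro g hg
  obtain ⟨a, ha, b, hb, rfl⟩ := c.exists_mul_normalizer (inv_centralizer_singleton hz.2)
    (C_ne_top hz h1) ((E_le_N1 c).trans (N1_le_centralizer hz)) hg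
  exact mul_mem_sup ha (mem_inf.mp hb).2

/-- A candidate containing `N(E)` and all `W z` gives the data of step 3. -/
theorem mData_of (h4 : 4 ≤ Nat.card c.Φ) {M : Subgroup G} (hne : M ≠ ⊤) (hinv : Inv c.α M)
    (hNE : normalizer (c.E : Set G) ≤ M) (hW : ∀ z ∈ c.Φ, z ≠ 1 → W c z ≤ M) :
    Nonempty c.MData :=
  ⟨{ M := M, ne_top := hne, inv := hinv
     S_le := (S_le_N1 c).trans (inf_le_left.trans hNE)
     normalizer_le := hNE
     centralizer_le := fun z hz h1 => (centralizer_le_sup hz h1).trans (sup_le (hW z hz h1) hNE)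
     four_le := h4 }⟩

end Cfsg.Agent.HHS52.MSub
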